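import Mathlib

/-!
# Linear algebra preliminaries for products of conjugacy classes in `PSL_d` (helper4)

* `exists_pair_indep`: a non-scalar matrix `M` has a vector `v` with `v, M v` independent;
* `exists_basis_matrix`: an independent pair can be moved to two prescribed standard basis vectors
  by an invertible matrix.
-/

set_option autoImplicit false

namespace Cfsg.Agent.Lib.H4.ClsProd

open Matrix

variable {F : Type*} [Field F] {d : ℕ}

/-- independence of a pair, spelled out -/
def PairIndep (u v : Fin d → F) : Prop := ∀ s t : F, s • u + t • v = 0 → s = 0 ∧ t = 0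

/-- a matrix all of whose vectors are eigenvectors is scalar -/
theorem scalar_of_forall_eigen (M : Matrix (Fin d) (Fin d) F)
    (h : ∀ v : Fin d → F, ∃ c : F, M *ᵥ v = c • v) : ∃ c : F, M = Matrix.scalar (Fin d) c := by
  classical
  choose c hc using h
  have hentry : ∀ i j : Fin d, M i j = c (Pi.single j 1) * (if i = j then 1 else 0) := by
    intro i j
    have h1 := congrFun (hc (Pi.single j 1)) i
    rw [Matrix.mulVec_single_one] at h1
    simp only [Matrix.col_apply, Pi.smul_apply, smul_eq_mul, Pi.single_apply] at h1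
    exact h1
  have hconst : ∀ i j : Fin d, c (Pi.single i 1) = c (Pi.single j 1) := by
    intro i j
    by_cases hij : i = j
    · rw [hij]
    · have h1 := hc (Pi.single i 1 + Pi.single j 1)
      rw [Matrix.mulVec_add, hc, hc, smul_add] at h1
      have h2 := congrFun h1 i
      have h3 := congrFun h1 j
      simp only [Pi.add_apply, Pi.smul_apply, smul_eq_mul, Pi.single_apply, if_true,
        if_neg hij, if_neg (Ne.symm hij), mul_one, mul_zero, add_zero, zero_add] at h2 h3
      rw [h2, h3]
  rcases isEmpty_or_nonempty (Fin d) with hE | ⟨⟨i0⟩⟩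
  · exact ⟨0, by ext i; exact (hE.false i).elim⟩
  · refine ⟨c (Pi.single i0 1), ?_⟩
    ext i j
    rw [hentry, Matrix.scalar_apply, Matrix.diagonal_apply, hconst j i0]
    split_ifs <;> simp

/-- a non-scalar matrix moves some vector off its line -/
theorem exists_pair_indep (M : Matrix (Fin d) (Fin d) F)
    (hM : ∀ c : F, M ≠ Matrix.scalar (Fin d) c) : ∃ v : Fin d → F, PairIndep v (M *ᵥ v) := by
  by_contra hcon
  push Not at hcon
  apply (scalar_of_forall_eigen M ?_).elim (fun c hc => hM c hc)
  intro v
  by_cases hv : v = 0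
  · exact ⟨0, by rw [hv, Matrix.mulVec_zero, smul_zero]⟩
  · have h1 := hcon v
    unfold PairIndep at h1
    push Not at h1
    obtain ⟨s, t, hst, hne⟩ := h1
    have ht : t ≠ 0 := by
      intro ht
      rw [ht, zero_smul, add_zero] at hst
      rcases smul_eq_zero.1 hst with h | h
      · exact (hne h) ht
      · exact hv h
    refine ⟨-(s / t), ?_⟩
    have h2 : t • (M *ᵥ v) = -(s • v) := eq_neg_of_add_eq_zero_right hst
    have h3 : M *ᵥ v = t⁻¹ • (t • (M *ᵥ v)) := by rw [smul_smul, inv_mul_cancel₀ ht, one_smul]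
    rw [h3, h2, smul_neg, smul_smul, neg_smul, div_eq_inv_mul]

theorem exists_perm {α : Type*} [DecidableEq α] {p q a b : α} (hpq : p ≠ q) (hab : a ≠ b) :
    ∃ σ : Equiv.Perm α, σ p = a ∧ σ q = b := by
  set σ1 : Equiv.Perm α := Equiv.swap p a with hσ1
  have h1 : σ1 p = a := Equiv.swap_apply_left p a
  have h2 : σ1 q ≠ a := by
    intro h
    rw [← h1] at h
    exact hpq (σ1.injective h).symm
  refine ⟨σ1.trans (Equiv.swap (σ1 q) b), ?_, ?_⟩
  · rw [Equiv.trans_apply, h1, Equiv.swap_apply_of_ne_of_ne (Ne.symm h2) hab]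
  · rw [Equiv.trans_apply, Equiv.swap_apply_left]

/-- an independent pair can be moved to `e_a, e_b` by an invertible matrix -/
theorem exists_basis_matrix (u v : Fin d → F) (huv : PairIndep u v) {a b : Fin d} (hab : a ≠ b) :
    ∃ P P' : Matrix (Fin d) (Fin d) F, P * P' = 1 ∧ P' * P = 1 ∧
      P *ᵥ u = Pi.single a 1 ∧ P *ᵥ v = Pi.single b 1 := by
  classical
  have hne : u ≠ v := by
    intro h
    have := huv 1 (-1) (by rw [h]; simp)
    exact one_ne_zero this.1
  have hli : LinearIndepOn F id ({u, v} : Set (Fin d → F)) := by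
    rw [LinearIndepOn.pair_iff id hne]
    exact huv
  let B := Module.Basis.extend hli
  have hmu : u ∈ hli.extend (Set.subset_univ _) :=
    Module.Basis.subset_extend hli (Set.mem_insert u _)
  have hmv : v ∈ hli.extend (Set.subset_univ _) :=
    Module.Basis.subset_extend hli (Set.mem_insert_of_mem u (Set.mem_singleton v))
  let _ : Fintype ↥(hli.extend (Set.subset_univ _)) := Fintype.ofFinite _
  have hcard : Fintype.card ↥(hli.extend (Set.subset_univ _)) = d := by
    rw [← Module.finrank_eq_card_basis B, Module.finrank_fin_fun]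
  let e0 : ↥(hli.extend (Set.subset_univ _)) ≃ Fin d := Fintype.equivFinOfCardEq hcard
  have hpq : e0 ⟨u, hmu⟩ ≠ e0 ⟨v, hmv⟩ := by
    intro h
    exact hne (congrArg Subtype.val (e0.injective h))
  obtain ⟨σ, hσ1, hσ2⟩ := exists_perm hpq hab
  let e1 : ↥(hli.extend (Set.subset_univ _)) ≃ Fin d := e0.trans σ
  have he1u : e1 ⟨u, hmu⟩ = a := hσ1
  have he1v : e1 ⟨v, hmv⟩ = b := hσ2
  let B' := B.reindex e1
  have hB'a : B' a = u := by
    rw [Module.Basis.reindex_apply, ← he1u, Equiv.symm_apply_apply, Module.Basis.extend_apply_self]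
  have hB'b : B' b = v := by
    rw [Module.Basis.reindex_apply, ← he1v, Equiv.symm_apply_apply, Module.Basis.extend_apply_self]
  let f : (Fin d → F) ≃ₗ[F] (Fin d → F) := B'.equivFun
  refine ⟨LinearMap.toMatrix' f.toLinearMap, LinearMap.toMatrix' f.symm.toLinearMap, ?_, ?_, ?_, ?_⟩
  · rw [← LinearMap.toMatrix'_comp]
    have : f.toLinearMap.comp f.symm.toLinearMap = LinearMap.id := by
      ext x : 1
      simp
    rw [this, LinearMap.toMatrix'_id]
  · rw [← LinearMap.toMatrix'_comp]
    have : f.symm.toLinearMap.comp f.toLinearMap = LinearMap.id := by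
      ext x : 1
      simp
    rw [this, LinearMap.toMatrix'_id]
  · rw [LinearMap.toMatrix'_mulVec, ← hB'a]
    funext j
    show B'.equivFun (B' a) j = _
    rw [Module.Basis.equivFun_self]
    simp [Pi.single_apply, eq_comm]
  · rw [LinearMap.toMatrix'_mulVec, ← hB'b]
    funext j
    show B'.equivFun (B' b) j = _
    rw [Module.Basis.equivFun_self]
    simp [Pi.single_apply, eq_comm]

end Cfsg.Agent.Lib.H4.ClsProd
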