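import Cfsg.Agent.Lib.H4.ClsProd.Basis

/-!
# Normal form of a non-scalar element of `SL_d` under conjugation (helper4)

`exists_conj_col`: a non-scalar `m ∈ SL_d(F)`, `d ≥ 3`, has an `SL_d`-conjugate whose column `a`
is the standard basis vector `e_b` (`a ≠ b` prescribed).
-/

set_option autoImplicit false

namespace Cfsg.Agent.Lib.H4.ClsProd

open Matrix

variable {F : Type*} [Field F] {d : ℕ}

local notation "SLd" => Matrix.SpecialLinearGroup (Fin d) F

theorem coe_inv_mulVec (g : SLd) (v w : Fin d → F) (h : (g : Matrix (Fin d) (Fin d) F) *ᵥ v = w) :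
    ((g⁻¹ : SLd) : Matrix (Fin d) (Fin d) F) *ᵥ w = v := by
  rw [← h, Matrix.mulVec_mulVec]
  have : ((g⁻¹ : SLd) : Matrix (Fin d) (Fin d) F) * (g : Matrix (Fin d) (Fin d) F) = 1 := by
    rw [← Matrix.SpecialLinearGroup.coe_mul, inv_mul_cancel, Matrix.SpecialLinearGroup.coe_one]
  rw [this, Matrix.one_mulVec]

/-- conjugate with prescribed column -/
theorem exists_conj_col (m : SLd) (hm : ∀ c : F, (m : Matrix (Fin d) (Fin d) F) ≠ Matrix.scalar (Fin d) c)
    {a b c : Fin d} (hab : a ≠ b) (hca : c ≠ a) (hcb : c ≠ b) :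
    ∃ g : SLd, ((g * m * g⁻¹ : SLd) : Matrix (Fin d) (Fin d) F) *ᵥ Pi.single a 1 = Pi.single b 1 := by
  classical
  obtain ⟨v, hv⟩ := exists_pair_indep (m : Matrix (Fin d) (Fin d) F) hm
  obtain ⟨P, P', hPP', hP'P, hPv, hPmv⟩ := exists_basis_matrix v _ hv hab
  have hdet : P.det * P'.det = 1 := by rw [← Matrix.det_mul, hPP', Matrix.det_one]
  have hdet0 : P.det ≠ 0 := left_ne_zero_of_mul_eq_one hdet
  set w : Fin d → F := Function.update (fun _ => (1 : F)) c (P.det)⁻¹ with hw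
  have hwa : w a = 1 := by rw [hw, Function.update_of_ne (Ne.symm hca)]
  have hwb : w b = 1 := by rw [hw, Function.update_of_ne (Ne.symm hcb)]
  have hdetD : (Matrix.diagonal w).det = (P.det)⁻¹ := by
    rw [Matrix.det_diagonal, hw]
    rw [Finset.prod_update_of_mem (Finset.mem_univ c)]
    simp
  have hdet1 : (Matrix.diagonal w * P).det = 1 := by
    rw [Matrix.det_mul, hdetD, inv_mul_cancel₀ hdet0]
  let g : SLd := ⟨Matrix.diagonal w * P, hdet1⟩
  have hgv : (g : Matrix (Fin d) (Fin d) F) *ᵥ v = Pi.single a 1 := by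
    show (Matrix.diagonal w * P) *ᵥ v = _
    rw [← Matrix.mulVec_mulVec, hPv, Matrix.diagonal_mulVec_single, hwa, mul_one]
  have hgmv : (g : Matrix (Fin d) (Fin d) F) *ᵥ ((m : Matrix (Fin d) (Fin d) F) *ᵥ v) = Pi.single b 1 := by
    show (Matrix.diagonal w * P) *ᵥ _ = _
    rw [← Matrix.mulVec_mulVec, hPmv, Matrix.diagonal_mulVec_single, hwb, mul_one]
  refine ⟨g, ?_⟩
  rw [Matrix.SpecialLinearGroup.coe_mul, Matrix.SpecialLinearGroup.coe_mul,
    ← Matrix.mulVec_mulVec, ← Matrix.mulVec_mulVec, coe_inv_mulVec g v _ hgv, hgmv]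

end Cfsg.Agent.Lib.H4.ClsProd
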