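import Cfsg.Agent.Lib.H4.ClsProd.Normal

/-!
# Traces of products of conjugates in `SL_d`, `d ≥ 3` (helper4)

`exists_trace_eq`: for non-scalar `A B ∈ SL_d(F)` and every `τ ∈ F` there is `h ∈ SL_d(F)` with
`tr (A * h B h⁻¹) = τ`.
-/

set_option autoImplicit false

namespace Cfsg.Agent.Lib.H4.ClsProd

open Matrix

variable {F : Type*} [Field F] {k : ℕ}

local notation "n3" => Fin (k + 3)
local notation "SL3" => Matrix.SpecialLinearGroup (Fin (k + 3)) F
local notation "M3" => Matrix (Fin (k + 3)) (Fin (k + 3)) F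

theorem ne21 : (2 : n3) ≠ 1 := by
  intro h
  have := congrArg Fin.val h
  simp at this
  rw [Nat.mod_eq_of_lt (by omega)] at this
  omega

theorem ne20 : (2 : n3) ≠ 0 := by
  intro h
  have := congrArg Fin.val h
  simp at this
  rw [Nat.mod_eq_of_lt (by omega)] at this
  omega

theorem ne10 : (1 : n3) ≠ 0 := by
  intro h
  have := congrArg Fin.val h
  simp at this

/-- column `j` of `M` is `e_i` -/
def ColIs (M : M3) (j i : n3) : Prop := M *ᵥ Pi.single j 1 = Pi.single i 1

theorem ColIs.apply {M : M3} {j i : n3} (h : ColIs M j i) (r : n3) :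
    M r j = if r = i then 1 else 0 := by
  classical
  have h1 := congrFun h r
  rw [Matrix.mulVec_single_one] at h1
  simp only [Matrix.col_apply, Pi.single_apply] at h1
  exact h1

/-- the affine trace family -/
theorem trace_family (A B : M3) (hA : ColIs A 0 1) (hB : ColIs B 0 2) (t : F) :
    (A * (Matrix.transvection 0 2 t * B * Matrix.transvection 0 2 (-t))).trace =
      (A * B).trace + t * (B 2 1 - A 2 2) := by
  classical
  have hA20 : A 2 0 = 0 := by rw [hA.apply, if_neg ne21]
  have hBA : (B * A) 2 0 = B 2 1 := by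
    rw [Matrix.mul_apply, Finset.sum_eq_single (1 : n3)]
    · rw [hA.apply]; simp
    · intro b _ hb
      rw [hA.apply, if_neg hb, mul_zero]
    · intro h; exact absurd (Finset.mem_univ _) h
  have hAB : (A * B) 2 0 = A 2 2 := by
    rw [Matrix.mul_apply, Finset.sum_eq_single (2 : n3)]
    · rw [hB.apply]; simp
    · intro b _ hb
      rw [hB.apply, if_neg hb, mul_zero]
    · intro h; exact absurd (Finset.mem_univ _) h
  set E : M3 := Matrix.single 0 2 t with hE
  have hT : Matrix.transvection (0 : n3) 2 t = 1 + E := rfl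
  have hT' : Matrix.transvection (0 : n3) 2 (-t) = 1 - E := by
    rw [Matrix.transvection, hE, sub_eq_add_neg]
    congr 1
    ext i j
    simp only [Matrix.single, Matrix.of_apply, Matrix.neg_apply]
    split_ifs <;> simp
  have hEBE : E * B * E = Matrix.single 0 2 (t * B 2 0 * t) := by
    rw [hE, Matrix.single_mul_mul_single]
  have hexp : A * ((1 + E) * B * (1 - E)) = A * B + A * (E * B) - A * B * E - A * (E * B * E) := by
    noncomm_ring
  rw [hT, hT', hexp, Matrix.trace_sub, Matrix.trace_sub, Matrix.trace_add]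
  have h1 : (A * (E * B)).trace = t * B 2 1 := by
    rw [Matrix.trace_mul_comm, Matrix.mul_assoc, hE, Matrix.trace_single_mul, hBA, smul_eq_mul]
  have h2 : (A * B * E).trace = t * A 2 2 := by
    rw [hE, Matrix.trace_mul_single, hAB]
    simp [mul_comm]
  have h3 : (A * (E * B * E)).trace = 0 := by
    rw [hEBE, Matrix.trace_mul_single, hA20]
    simp
  rw [h1, h2, h3]
  ring

theorem ColIs.of_apply {M : M3} {j i : n3} (h : ∀ r, M r j = if r = i then 1 else 0) :
    ColIs M j i := by
  classical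
  unfold ColIs
  funext r
  rw [Matrix.mulVec_single_one]
  simp only [Matrix.col_apply, Pi.single_apply]
  exact h r

/-- transvections as elements of `SL` -/
def tsl (i j : n3) (hij : i ≠ j) (t : F) : SL3 :=
  ⟨Matrix.transvection i j t, Matrix.det_transvection_of_ne i j hij t⟩

theorem tsl_inv (i j : n3) (hij : i ≠ j) (t : F) : (tsl i j hij t)⁻¹ = tsl i j hij (-t) := by
  apply inv_eq_of_mul_eq_one_right
  apply Subtype.ext
  show Matrix.transvection i j t * Matrix.transvection i j (-t) = 1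
  rw [Matrix.transvection_mul_transvection_same i j hij, add_neg_cancel, Matrix.transvection_zero]

theorem coe_conj_tsl (i j : n3) (hij : i ≠ j) (t : F) (B : SL3) :
    ((tsl i j hij t * B * (tsl i j hij t)⁻¹ : SL3) : M3) =
      Matrix.transvection i j t * (B : M3) * Matrix.transvection i j (-t) := by
  rw [tsl_inv]
  rfl

/-- adjusting the `(2,1)` entry -/
theorem exists_adjust (B : SL3) (hB : ColIs (B : M3) 0 2) (c : F) :
    ∃ s : SL3, ColIs ((s * B * s⁻¹ : SL3) : M3) 0 2 ∧ ((s * B * s⁻¹ : SL3) : M3) 2 1 ≠ c := by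
  classical
  by_cases h : (B : M3) 2 1 = c
  · refine ⟨tsl 0 1 (Ne.symm ne10) 1, ?_, ?_⟩
    · rw [coe_conj_tsl]
      apply ColIs.of_apply
      intro r
      rw [Matrix.mul_transvection_apply_of_ne _ _ _ _ (Ne.symm ne10)]
      by_cases hr : r = 0
      · subst hr
        rw [Matrix.transvection_mul_apply_same, hB.apply, hB.apply, if_neg (Ne.symm ne20),
          if_neg (Ne.symm ne21)]
        simp
      · rw [Matrix.transvection_mul_apply_of_ne _ _ _ _ hr, hB.apply]
    · rw [coe_conj_tsl, Matrix.mul_transvection_apply_same,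
        Matrix.transvection_mul_apply_of_ne _ _ _ _ ne20,
        Matrix.transvection_mul_apply_of_ne _ _ _ _ ne20, hB.apply, if_pos rfl, h]
      intro h'
      have : c + -1 * 1 = c + 0 := by rw [h', add_zero]
      have h2 := add_left_cancel this
      simp at h2
  · refine ⟨1, ?_, ?_⟩
    · simpa using hB
    · simpa using h


theorem trace_conj (g Y : SL3) :
    ((g⁻¹ * Y * g : SL3) : M3).trace = (Y : M3).trace := by
  rw [Matrix.SpecialLinearGroup.coe_mul, Matrix.SpecialLinearGroup.coe_mul, Matrix.trace_mul_cycle,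
    ← Matrix.SpecialLinearGroup.coe_mul, mul_inv_cancel, Matrix.SpecialLinearGroup.coe_one,
    Matrix.one_mul]

/-- **Main lemma**: the trace of `A * (h B h⁻¹)` takes every value. -/
theorem exists_trace_eq (A B : SL3)
    (hA : ∀ c : F, (A : M3) ≠ Matrix.scalar (Fin (k + 3)) c)
    (hB : ∀ c : F, (B : M3) ≠ Matrix.scalar (Fin (k + 3)) c) (τ : F) :
    ∃ h : SL3, ((A * (h * B * h⁻¹) : SL3) : M3).trace = τ := by
  obtain ⟨gA, hgA⟩ := exists_conj_col A hA (a := 0) (b := 1) (c := 2) (Ne.symm ne10) ne20 ne21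
  obtain ⟨gB, hgB⟩ := exists_conj_col B hB (a := 0) (b := 2) (c := 1) (Ne.symm ne20) ne10
    (Ne.symm ne21)
  set A1 : SL3 := gA * A * gA⁻¹ with hA1
  set B1 : SL3 := gB * B * gB⁻¹ with hB1
  obtain ⟨s, hs1, hs2⟩ := exists_adjust B1 hgB ((A1 : M3) 2 2)
  set B2 : SL3 := s * B1 * s⁻¹ with hB2
  have hc1 : (B2 : M3) 2 1 - (A1 : M3) 2 2 ≠ 0 := sub_ne_zero.2 hs2
  set t : F := (τ - ((A1 : M3) * (B2 : M3)).trace) / ((B2 : M3) 2 1 - (A1 : M3) 2 2) with ht
  set T : SL3 := tsl 0 2 (Ne.symm ne20) t with hT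
  have hfam := trace_family (A1 : M3) (B2 : M3) hgA hs1 t
  refine ⟨gA⁻¹ * T * s * gB, ?_⟩
  have hgrp : A * ((gA⁻¹ * T * s * gB) * B * (gA⁻¹ * T * s * gB)⁻¹) =
      gA⁻¹ * (A1 * (T * B2 * T⁻¹)) * gA := by
    rw [hA1, hB2, hB1]
    group
  rw [hgrp, trace_conj, Matrix.SpecialLinearGroup.coe_mul, hT, coe_conj_tsl, hfam, ht]
  field_simp
  ring

end Cfsg.Agent.Lib.H4.ClsProd
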